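import Groth.Prelude.Def_RelSpec2
import Groth.Agent.SiteBase.ModColim
import Groth.Agent.RpushColim.Main
import Groth.Agent.KFlatLib.Scheme.PushCoprod

/-!
# Direct images as modules over the direct image algebra commute with colimits
-/

universe u

open CategoryTheory CategoryTheory.Limits AlgebraicGeometry Opposite

namespace Groth.Agent.AModX

variable {S : Scheme.{u}}

theorem preservesColimitsOfSize_toOS (B : RelSpec.QCAlg S) :
    PreservesColimitsOfSize.{u, u} (AMod.toOS B) :=
  SiteBase.preservesColimitsOfSize_restrictScalars (AMod.strHom B)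

theorem reflectsIsomorphisms_toOS (B : RelSpec.QCAlg S) : (AMod.toOS B).ReflectsIsomorphisms :=
  SiteBase.reflectsIsomorphisms_restrictScalars (AMod.strHom B)

theorem preservesColimitsOfShape_dirImg {X : Scheme.{u}} (f : X ⟶ S) [QuasiCompact f] [QuasiSeparated f]
    (J : Type u) [SmallCategory J] [PreservesColimitsOfShape J (Scheme.Modules.pushforward f)] :
    PreservesColimitsOfShape J (AMod.dirImg f) := by
  haveI := preservesColimitsOfSize_toOS (RelSpec.QCAlg.directImage f)
  haveI := reflectsIsomorphisms_toOS (RelSpec.QCAlg.directImage f)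
  haveI : ReflectsColimitsOfShape J (AMod.toOS (RelSpec.QCAlg.directImage f)) :=
    reflectsColimitsOfShape_of_reflectsIsomorphisms
  haveI : PreservesColimitsOfShape J (AMod.dirImg f ⋙ AMod.toOS (RelSpec.QCAlg.directImage f)) :=
    inferInstanceAs (PreservesColimitsOfShape J (Scheme.Modules.pushforward f))
  exact preservesColimitsOfShape_of_reflects_of_preserves _ (AMod.toOS (RelSpec.QCAlg.directImage f))

end Groth.Agent.AModX
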